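import Mathlib.RingTheory.Nullstellensatz
import Mathlib.RingTheory.Spectrum.Prime.Chevalley
import Mathlib.RingTheory.Ideal.KrullsHeightTheorem
import Mathlib.LinearAlgebra.Matrix.GeneralLinearGroup.Defs
import Mathlib.Algebra.MvPolynomial.Funext
import Mathlib.LinearAlgebra.Matrix.Polynomial

/-!
Matrix groups over an algebraically closed field generated by polynomial one-parameter families:
their vanishing ideal is prime, and such a group contains every matrix at which that ideal
vanishes.
-/

set_option autoImplicit false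

namespace Cfsg.Agent.AlgGroup

universe u v w

variable {k : Type u} [Field k] {ι : Type v} [Fintype ι] [DecidableEq ι] {J : Type w}

/-- A group of matrices generated by polynomial one-parameter families. -/
structure Fam (k : Type u) [Field k] (ι : Type v) [Fintype ι] [DecidableEq ι] (J : Type w) where
  X : J → k → GL ι k
  P : J → Matrix ι ι (Polynomial k)
  val : ∀ j t, (X j t : Matrix ι ι k) = (P j).map (Polynomial.eval t)
  zero : ∀ j, X j 0 = 1
  inv : ∀ j t, (X j t)⁻¹ = X j (-t)

variable (S : Fam k ι J)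

/-- The group generated by the families. -/
def Fam.group : Subgroup (GL ι k) := Subgroup.closure {g | ∃ j t, g = S.X j t}

theorem Fam.mem_group (j : J) (t : k) : S.X j t ∈ S.group :=
  Subgroup.subset_closure ⟨j, t, rfl⟩

/-- A matrix as a point of affine space. -/
def pt (M : Matrix ι ι k) : ι × ι → k := fun p => M p.1 p.2

/-- The generic matrix. -/
noncomputable def gen : Matrix ι ι (MvPolynomial (ι × ι) k) :=
  Matrix.of fun a b => MvPolynomial.X (a, b)

theorem eval_gen (M : Matrix ι ι k) :
    ((MvPolynomial.eval (pt M)).mapMatrix (gen (k := k) (ι := ι)) : Matrix ι ι k) = M := by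
  ext a b
  simp [gen, pt, Matrix.map_apply]

theorem aeval_eq_eval' {σ : Type*} (x : σ → k) (p : MvPolynomial σ k) :
    MvPolynomial.aeval x p = MvPolynomial.eval x p := by
  rw [MvPolynomial.aeval_def, Algebra.algebraMap_self]
  rfl

/-- The vanishing ideal of the group. -/
noncomputable def Fam.ideal : Ideal (MvPolynomial (ι × ι) k) :=
  MvPolynomial.vanishingIdeal k (pt '' {M | ∃ g ∈ S.group, (g : Matrix ι ι k) = M})

theorem Fam.mem_ideal {p : MvPolynomial (ι × ι) k} :
    p ∈ S.ideal ↔ ∀ g ∈ S.group, MvPolynomial.eval (pt (g : Matrix ι ι k)) p = 0 := by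
  simp only [Fam.ideal, MvPolynomial.mem_vanishingIdeal_iff, aeval_eq_eval']
  constructor
  · intro h g hg
    exact h _ ⟨_, ⟨g, hg, rfl⟩, rfl⟩
  · rintro h _ ⟨_, ⟨g, hg, rfl⟩, rfl⟩
    exact h g hg

/-- The product of the families along a word. -/
def Fam.word (L : List J) (z : ℕ → k) : GL ι k :=
  (L.zipIdx.map fun e => S.X e.1 (z e.2)).prod

/-- The product of the families along a word, as a matrix of polynomials. -/
noncomputable def Fam.wordPoly (L : List J) : Matrix ι ι (MvPolynomial ℕ k) :=
  (L.zipIdx.map fun e =>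
    (Polynomial.aeval (R := k) (MvPolynomial.X e.2 : MvPolynomial ℕ k)).toRingHom.mapMatrix
      (S.P e.1)).prod

theorem Fam.eval_wordPoly (L : List J) (z : ℕ → k) :
    ((MvPolynomial.eval z).mapMatrix (S.wordPoly L) : Matrix ι ι k) =
      (S.word L z : Matrix ι ι k) := by
  rw [Fam.wordPoly, Fam.word, map_list_prod, List.map_map,
    ← Units.coeHom_apply, map_list_prod, List.map_map]
  refine congrArg List.prod (List.map_congr_left fun e _ => ?_)
  simp only [Function.comp_apply, Units.coeHom_apply, S.val, RingHom.mapMatrix_apply,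
    Matrix.map_map]
  refine congrArg _ (funext fun p => ?_)
  show MvPolynomial.eval z (Polynomial.aeval (MvPolynomial.X e.2) p) = _
  induction p using Polynomial.induction_on' with
  | add a b ha hb => rw [map_add, map_add, ha, hb, Polynomial.eval_add]
  | monomial n c => simp

theorem Fam.word_mem (L : List J) (z : ℕ → k) : S.word L z ∈ S.group :=
  Subgroup.list_prod_mem _ fun g hg => by
    obtain ⟨e, -, rfl⟩ := List.mem_map.1 hg
    exact S.mem_group _ _

theorem Fam.word_congr (L : List J) {z z' : ℕ → k} (h : ∀ i < L.length, z i = z' i) :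
    S.word L z = S.word L z' := by
  refine congrArg List.prod (List.map_congr_left fun e he => ?_)
  rw [h e.2 (by simpa using List.snd_lt_of_mem_zipIdx he)]

theorem Fam.word_append (L L' : List J) (z : ℕ → k) :
    S.word (L ++ L') z = S.word L z * S.word L' (fun i => z (i + L.length)) := by
  rw [Fam.word, List.zipIdx_append, List.map_append, List.prod_append]
  congr 1
  rw [Nat.zero_add, List.zipIdx_eq_map_add, List.map_map]
  refine congrArg List.prod (List.map_congr_left fun e _ => ?_)
  simp [add_comm]

theorem Fam.word_zero (L : List J) : S.word L (fun _ => (0 : k)) = 1 :=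
  List.prod_eq_one fun g hg => by
    obtain ⟨e, -, rfl⟩ := List.mem_map.1 hg
    exact S.zero _

theorem Fam.exists_word {g : GL ι k} (hg : g ∈ S.group) : ∃ L z, S.word L z = g := by
  induction hg using Subgroup.closure_induction'' with
  | mem x hx =>
    obtain ⟨j, t, rfl⟩ := hx
    exact ⟨[j], fun _ => t, by simp [Fam.word]⟩
  | inv_mem x hx =>
    obtain ⟨j, t, rfl⟩ := hx
    exact ⟨[j], fun _ => -t, by simp [Fam.word, S.inv]⟩
  | one => exact ⟨[], fun _ => 0, rfl⟩
  | mul x y _ _ hx hy =>
    obtain ⟨L, z, rfl⟩ := hx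
    obtain ⟨L', z', rfl⟩ := hy
    refine ⟨L ++ L', fun i => if i < L.length then z i else z' (i - L.length), ?_⟩
    rw [S.word_append]
    congr 1
    · exact S.word_congr L fun i hi => if_pos hi
    · exact S.word_congr L' fun i _ => by simp

/-- The polynomials vanishing on the image of a word. -/
noncomputable def Fam.wordKer (L : List J) : Ideal (MvPolynomial (ι × ι) k) :=
  RingHom.ker (MvPolynomial.aeval fun q : ι × ι => S.wordPoly L q.1 q.2 :
    MvPolynomial (ι × ι) k →ₐ[k] MvPolynomial ℕ k)

instance Fam.wordKer_isPrime (L : List J) : (S.wordKer L).IsPrime := RingHom.ker_isPrime _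

theorem Fam.eval_aeval_word (L : List J) (z : ℕ → k) (p : MvPolynomial (ι × ι) k) :
    MvPolynomial.eval z (MvPolynomial.aeval (fun q : ι × ι => S.wordPoly L q.1 q.2) p) =
      MvPolynomial.eval (pt (S.word L z : Matrix ι ι k)) p := by
  induction p using MvPolynomial.induction_on with
  | C a => simp
  | add a b ha hb => simp only [map_add, ha, hb]
  | mul_X a q ha =>
    simp only [map_mul, ha, MvPolynomial.aeval_X, MvPolynomial.eval_X]
    rw [← S.eval_wordPoly L z]
    rfl

theorem Fam.mem_wordKer [Infinite k] {L : List J} {p : MvPolynomial (ι × ι) k} :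
    p ∈ S.wordKer L ↔ ∀ z : ℕ → k, MvPolynomial.eval (pt (S.word L z : Matrix ι ι k)) p = 0 := by
  rw [Fam.wordKer, RingHom.mem_ker]
  constructor
  · intro h z; rw [← S.eval_aeval_word, h, map_zero]
  · intro h
    exact MvPolynomial.funext fun z => by rw [S.eval_aeval_word, h, map_zero]

/-- Some word has the same vanishing ideal as the group. -/
theorem Fam.exists_dense [Infinite k] : ∃ L : List J, S.ideal = S.wordKer L := by
  classical
  haveI : ∀ L, (S.wordKer L).FiniteHeight := fun L => inferInstance
  have hfin : ∀ L, ∃ n : ℕ, (S.wordKer L).height = n := fun L =>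
    (ENat.ne_top_iff_exists.1 (Ideal.height_ne_top_of_isPrime (I := S.wordKer L))).imp
      fun _ h => h.symm
  choose n hn using hfin
  obtain ⟨L, -, hL⟩ := WellFounded.has_min (measure n).wf Set.univ ⟨[], trivial⟩
  refine ⟨L, le_antisymm ?_ ?_⟩
  · intro p hp
    exact S.mem_wordKer.2 fun z => S.mem_ideal.1 hp _ (S.word_mem L z)
  · intro p hp
    refine S.mem_ideal.2 fun g hg => ?_
    obtain ⟨L', z', rfl⟩ := S.exists_word hg
    have hle : S.wordKer (L ++ L') ≤ S.wordKer L := by
      intro r hr
      refine S.mem_wordKer.2 fun z => ?_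
      have := S.mem_wordKer.1 hr (fun i => if i < L.length then z i else 0)
      rwa [S.word_append, S.word_congr L (z' := z) (fun i hi => if_pos hi),
        show S.word L' (fun i => if i + L.length < L.length then z (i + L.length) else 0) = 1 by
          rw [← S.word_zero L']; exact S.word_congr L' fun i _ => by simp,
        mul_one] at this
    have heq : S.wordKer (L ++ L') = S.wordKer L := by
      refine Ideal.eq_of_le_of_height_le _ hle ?_
      rw [hn, hn]
      exact_mod_cast not_lt.1 (hL (L ++ L') trivial)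
    have := S.mem_wordKer.1 (heq.symm ▸ hp)
      (fun i => if i < L.length then 0 else z' (i - L.length))
    rwa [S.word_append, S.word_congr L (z' := fun _ => 0) (fun i hi => if_pos hi), S.word_zero,
      one_mul, S.word_congr L' (z' := z') (fun i _ => by simp)] at this

theorem Fam.ideal_isPrime [Infinite k] : S.ideal.IsPrime := by
  obtain ⟨L, hL⟩ := S.exists_dense
  rw [hL]; infer_instance

/-- A matrix at which the vanishing ideal vanishes. -/
def Fam.IsPoint (M : Matrix ι ι k) : Prop := ∀ p ∈ S.ideal, MvPolynomial.eval (pt M) p = 0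

theorem Fam.isPoint_of_mem {g : GL ι k} (hg : g ∈ S.group) : S.IsPoint (g : Matrix ι ι k) :=
  fun _ hp => S.mem_ideal.1 hp g hg

theorem eval_comp (φ : Matrix ι ι (MvPolynomial (ι × ι) k)) (M : Matrix ι ι k)
    (p : MvPolynomial (ι × ι) k) :
    MvPolynomial.eval (pt M) (MvPolynomial.aeval (fun q : ι × ι => φ q.1 q.2) p) =
      MvPolynomial.eval (pt ((MvPolynomial.eval (pt M)).mapMatrix φ : Matrix ι ι k)) p := by
  induction p using MvPolynomial.induction_on with
  | C a => simp
  | add a b ha hb => simp only [map_add, ha, hb]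
  | mul_X a q ha =>
    simp only [map_mul, ha, MvPolynomial.aeval_X, MvPolynomial.eval_X]
    rfl

theorem Fam.det_eq_one [Infinite k] {g : GL ι k} (hg : g ∈ S.group) :
    (g : Matrix ι ι k).det = 1 := by
  induction hg using Subgroup.closure_induction with
  | mem x hx =>
    obtain ⟨j, t, rfl⟩ := hx
    set d : Polynomial k := (S.P j).det with hd
    have he : ∀ t, d.eval t = (S.X j t : Matrix ι ι k).det := fun t => by
      rw [S.val, hd, ← Polynomial.coe_evalRingHom, RingHom.map_det]
      rfl
    have hu : d * d.comp (-Polynomial.X) = 1 := by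
      refine Polynomial.funext fun t => ?_
      rw [Polynomial.eval_mul, Polynomial.eval_comp, Polynomial.eval_neg, Polynomial.eval_X,
        he, he, ← Matrix.det_mul, ← Units.val_mul, ← S.inv, mul_inv_cancel, Units.val_one,
        Matrix.det_one, Polynomial.eval_one]
    obtain ⟨c, -, hc⟩ := Polynomial.isUnit_iff.1 (IsUnit.of_mul_eq_one _ hu)
    have h0 := he 0
    rw [S.zero, Units.val_one, Matrix.det_one, ← hc, Polynomial.eval_C] at h0
    rw [← he, ← hc, Polynomial.eval_C, h0]
  | one => simp
  | mul x y _ _ hx hy => rw [Units.val_mul, Matrix.det_mul, hx, hy, mul_one]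
  | inv x _ hx =>
    have h1 : (x : Matrix ι ι k).det * ((x⁻¹ : GL ι k) : Matrix ι ι k).det = 1 := by
      rw [← Matrix.det_mul, ← Units.val_mul, mul_inv_cancel, Units.val_one, Matrix.det_one]
    rwa [hx, one_mul] at h1

theorem Fam.IsPoint.det_eq_one [Infinite k] {M : Matrix ι ι k} (h : S.IsPoint M) : M.det = 1 := by
  have := h ((gen (k := k) (ι := ι)).det - 1) (S.mem_ideal.2 fun g hg => by
    rw [map_sub, map_one, RingHom.map_det, eval_gen, S.det_eq_one hg, sub_self])
  rwa [map_sub, map_one, RingHom.map_det, eval_gen, sub_eq_zero] at this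

theorem Fam.IsPoint.mul_of_mem {M : Matrix ι ι k} (h : S.IsPoint M) {a : GL ι k}
    (ha : a ∈ S.group) : S.IsPoint (M * (a : Matrix ι ι k)) := by
  intro p hp
  set φ : Matrix ι ι (MvPolynomial (ι × ι) k) :=
    gen * MvPolynomial.C.mapMatrix (a : Matrix ι ι k)
  have he : ∀ N : Matrix ι ι k, (MvPolynomial.eval (pt N)).mapMatrix φ = N * a := fun N => by
    rw [map_mul, eval_gen]
    congr 1
    ext i j
    simp [Matrix.map_apply]
  have := h _ (S.mem_ideal.2 fun g hg => by
    rw [eval_comp, he, ← Units.val_mul]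
    exact S.mem_ideal.1 hp _ (Subgroup.mul_mem _ hg ha) :
      MvPolynomial.aeval (fun q : ι × ι => φ q.1 q.2) p ∈ S.ideal)
  rwa [eval_comp, he] at this

theorem Fam.IsPoint.mul [Infinite k] {M N : Matrix ι ι k} (hM : S.IsPoint M) (hN : S.IsPoint N) :
    S.IsPoint (M * N) := by
  intro p hp
  set φ : Matrix ι ι (MvPolynomial (ι × ι) k) := MvPolynomial.C.mapMatrix M * gen
  have he : ∀ N : Matrix ι ι k, (MvPolynomial.eval (pt N)).mapMatrix φ = M * N := fun N => by
    rw [map_mul, eval_gen]
    congr 1
    ext i j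
    simp [Matrix.map_apply]
  have := hN _ (S.mem_ideal.2 fun g hg => by
    rw [eval_comp, he]
    exact hM.mul_of_mem S hg p hp :
      MvPolynomial.aeval (fun q : ι × ι => φ q.1 q.2) p ∈ S.ideal)
  rwa [eval_comp, he] at this

theorem val_inv_eq_adjugate {g : GL ι k} (h : (g : Matrix ι ι k).det = 1) :
    ((g⁻¹ : GL ι k) : Matrix ι ι k) = (g : Matrix ι ι k).adjugate := by
  rw [Matrix.coe_units_inv, Matrix.inv_def, h, Ring.inverse_one, one_smul]

theorem Fam.IsPoint.adjugate [Infinite k] {M : Matrix ι ι k} (hM : S.IsPoint M) :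
    S.IsPoint M.adjugate := by
  intro p hp
  have he : ∀ N : Matrix ι ι k,
      (MvPolynomial.eval (pt N)).mapMatrix (gen (k := k) (ι := ι)).adjugate = N.adjugate :=
    fun N => by rw [RingHom.map_adjugate, eval_gen]
  have := hM _ (S.mem_ideal.2 fun g hg => by
    rw [eval_comp, he, ← val_inv_eq_adjugate (S.det_eq_one hg)]
    exact S.mem_ideal.1 hp _ (Subgroup.inv_mem _ hg) :
      MvPolynomial.aeval (fun q : ι × ι => (gen (k := k) (ι := ι)).adjugate q.1 q.2) p ∈ S.ideal)
  rwa [eval_comp, he] at this

/-- A dense part of the points consists of values of one word. -/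
theorem Fam.exists_open [IsAlgClosed k] :
    ∃ (L : List J) (h : MvPolynomial (ι × ι) k), h ∉ S.ideal ∧ S.ideal = S.wordKer L ∧
      ∀ M, S.IsPoint M → MvPolynomial.eval (pt M) h ≠ 0 →
        ∃ z : ℕ → k, (S.word L z : Matrix ι ι k) = M := by
  classical
  obtain ⟨L, hL⟩ := S.exists_dense
  haveI := S.ideal_isPrime
  -- the word uses finitely many variables
  let ψ : MvPolynomial (ι × ι) k →ₐ[k] MvPolynomial (Fin L.length) k :=
    MvPolynomial.aeval fun q => MvPolynomial.aeval
      (fun i : ℕ => if h : i < L.length then MvPolynomial.X ⟨i, h⟩ else 0) (S.wordPoly L q.1 q.2)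
  have hψ : ∀ (y : Fin L.length → k) (p : MvPolynomial (ι × ι) k),
      MvPolynomial.eval y (ψ p) = MvPolynomial.eval
        (pt (S.word L (fun i => if h : i < L.length then y ⟨i, h⟩ else 0) : Matrix ι ι k)) p := by
    intro y p
    have hz : ∀ r : MvPolynomial ℕ k, MvPolynomial.eval y (MvPolynomial.aeval
        (fun i : ℕ => if h : i < L.length then MvPolynomial.X ⟨i, h⟩ else 0) r) =
        MvPolynomial.eval (fun i => if h : i < L.length then y ⟨i, h⟩ else 0) r := by
      intro r
      induction r using MvPolynomial.induction_on with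
      | C a => simp
      | add a b ha hb => simp only [map_add, ha, hb]
      | mul_X a q ha =>
        simp only [map_mul, ha, MvPolynomial.aeval_X, MvPolynomial.eval_X]
        split <;> simp
    rw [← S.eval_aeval_word]
    induction p using MvPolynomial.induction_on with
    | C a => simp [ψ]
    | add a b ha hb => simp only [map_add, ha, hb]
    | mul_X a q ha => simp only [map_mul, ha, ψ, MvPolynomial.aeval_X, hz]
  have hker : RingHom.ker ψ.toRingHom = S.ideal := by
    ext p
    rw [RingHom.mem_ker, hL, S.mem_wordKer]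
    constructor
    · intro h z
      have := hψ (fun i => z i) p
      rw [show ψ p = 0 from h, map_zero] at this
      rw [S.word_congr L (z' := z) fun i hi => by rw [dif_pos hi]] at this
      exact this.symm
    · intro h
      refine MvPolynomial.funext fun y => ?_
      show MvPolynomial.eval y (ψ p) = _
      rw [hψ, h, map_zero]
  have hfp : ψ.toRingHom.FinitePresentation := by
    rw [← RingHom.FinitePresentation.of_finiteType]
    exact RingHom.FiniteType.of_comp_finiteType
      (f := algebraMap k (MvPolynomial (ι × ι) k))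
      (by rw [AlgHom.toRingHom_eq_coe, AlgHom.comp_algebraMap]
          exact RingHom.finiteType_algebraMap.2 inferInstance)
  obtain ⟨C, hC⟩ := PrimeSpectrum.exists_constructibleSetData_iff.2
    (PrimeSpectrum.isConstructible_range_comap hfp)
  have hgen : (⟨S.ideal, inferInstance⟩ : PrimeSpectrum (MvPolynomial (ι × ι) k)) ∈ C.toSet := by
    rw [hC]
    exact ⟨⟨⊥, Ideal.bot_prime⟩, PrimeSpectrum.ext hker⟩
  simp only [PrimeSpectrum.ConstructibleSetData.toSet, Set.mem_iUnion] at hgen
  obtain ⟨D, hD, hg, hf⟩ := hgen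
  rw [PrimeSpectrum.mem_zeroLocus, Set.singleton_subset_iff] at hf
  refine ⟨L, D.f, hf, hL, fun M hM hne => ?_⟩
  let ev : MvPolynomial (ι × ι) k →+* k := MvPolynomial.eval (pt M)
  have hmax : (RingHom.ker ev).IsMaximal := RingHom.ker_isMaximal_of_surjective _
    fun a => ⟨MvPolynomial.C a, MvPolynomial.eval_C a⟩
  have hin : (⟨RingHom.ker ev, hmax.isPrime⟩ : PrimeSpectrum (MvPolynomial (ι × ι) k)) ∈
      C.toSet := by
    simp only [PrimeSpectrum.ConstructibleSetData.toSet, Set.mem_iUnion]
    refine ⟨D, hD, fun r hr => hM r (hg hr), ?_⟩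
    rw [PrimeSpectrum.mem_zeroLocus, Set.singleton_subset_iff]
    exact hne
  rw [hC] at hin
  obtain ⟨Q, hQ⟩ := hin
  replace hQ : Q.asIdeal.comap ψ.toRingHom = RingHom.ker ev :=
    congrArg PrimeSpectrum.asIdeal hQ
  obtain ⟨Q', hQ', hle⟩ := Ideal.exists_le_maximal _ Q.2.ne_top
  have hQ'' : Q'.comap ψ.toRingHom = RingHom.ker ev :=
    (hmax.eq_of_le (Ideal.comap_ne_top _ hQ'.ne_top) (hQ ▸ Ideal.comap_mono hle)).symm
  obtain ⟨y, hy⟩ := MvPolynomial.eq_vanishingIdeal_singleton_of_isMaximal k hQ'
  refine ⟨fun i => if h : i < L.length then y ⟨i, h⟩ else 0, ?_⟩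
  ext a b
  have hmem : MvPolynomial.X (a, b) - MvPolynomial.C (M a b) ∈ Q'.comap ψ.toRingHom := by
    rw [hQ'']
    simp [ev, pt]
  rw [Ideal.mem_comap, hy, MvPolynomial.mem_vanishingIdeal_singleton_iff] at hmem
  have hmem' : MvPolynomial.eval y (ψ (MvPolynomial.X (a, b) - MvPolynomial.C (M a b))) = 0 := by
    rw [← aeval_eq_eval']
    exact hmem
  rw [hψ, map_sub, MvPolynomial.eval_X, MvPolynomial.eval_C, sub_eq_zero] at hmem'
  exact hmem'

/-- The group is the set of points of its vanishing ideal. -/
theorem Fam.mem_of_isPoint [IsAlgClosed k] {g : GL ι k} (hg : S.IsPoint (g : Matrix ι ι k)) :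
    g ∈ S.group := by
  obtain ⟨L, h, hh, hL, hopen⟩ := S.exists_open
  obtain ⟨z, hz⟩ : ∃ z, MvPolynomial.eval (pt (S.word L z : Matrix ι ι k)) h ≠ 0 := by
    by_contra hne
    push Not at hne
    exact hh (hL ▸ S.mem_wordKer.2 hne)
  set φ : Matrix ι ι (MvPolynomial (ι × ι) k) :=
    MvPolynomial.C.mapMatrix (g : Matrix ι ι k) * gen
  have he : ∀ N : Matrix ι ι k, (MvPolynomial.eval (pt N)).mapMatrix φ = g * N := fun N => by
    rw [map_mul, eval_gen]
    congr 1
    ext i j
    simp [Matrix.map_apply]
  have hnotin : MvPolynomial.aeval (fun q : ι × ι => φ q.1 q.2) h ∉ S.wordKer L := by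
    rw [← hL]
    intro hmem
    have hdet : (g : Matrix ι ι k).det = 1 := hg.det_eq_one S
    have hpt : S.IsPoint ((g⁻¹ * S.word L z : GL ι k) : Matrix ι ι k) := by
      rw [Units.val_mul, val_inv_eq_adjugate hdet]
      exact (hg.adjugate S).mul_of_mem S (S.word_mem L z)
    have := hpt _ hmem
    rw [eval_comp, he, ← Units.val_mul, mul_inv_cancel_left] at this
    exact hz this
  rw [S.mem_wordKer] at hnotin
  push Not at hnotin
  obtain ⟨z', hz'⟩ := hnotin
  rw [eval_comp, he] at hz'
  obtain ⟨z'', hz''⟩ := hopen _ (hg.mul_of_mem S (S.word_mem L z')) hz'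
  have : g = S.word L z'' * (S.word L z')⁻¹ :=
    eq_mul_inv_of_mul_eq (Units.ext (by rw [Units.val_mul]; exact hz''.symm))
  rw [this]
  exact Subgroup.mul_mem _ (S.word_mem L z'') (Subgroup.inv_mem _ (S.word_mem L z'))

end Cfsg.Agent.AlgGroup
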