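import Cfsg.Agent.AlgGroup.Generated
import Mathlib.RingTheory.Ideal.GoingUp

/-!
Lang's theorem for matrix groups over an algebraically closed field generated by polynomial
one-parameter families that commute with a Frobenius map.
-/

set_option autoImplicit false

namespace Cfsg.Agent.AlgGroup

universe u v w

/-- Lying over for maximal ideals along an integral homomorphism. -/
theorem exists_maximal_comap {A : Type u} {B : Type v} [CommRing A] [CommRing B] (f : A →+* B)
    (hf : f.IsIntegral) (m : Ideal A) [m.IsMaximal] (h : RingHom.ker f ≤ m) :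
    ∃ Q : Ideal B, Q.IsMaximal ∧ Q.comap f = m := by
  letI := f.toAlgebra
  haveI : Algebra.IsIntegral A B := ⟨hf⟩
  exact Ideal.exists_ideal_over_maximal_of_isIntegral m h

variable {k : Type u} [Field k] [IsAlgClosed k] {ι : Type v} [Fintype ι] [DecidableEq ι]
  {J : Type w} (S : Fam k ι J)

/-- Lang's theorem: every element `x` of the group is `g⁻¹ σ(g)` for an element `g` of it. -/
theorem Fam.lang' {q : ℕ} (hq : 2 ≤ q) (σ : k →+* k) (hσ : ∀ t, σ t = t ^ q)
    (hσX : ∀ j t, Matrix.GeneralLinearGroup.map σ (S.X j t) ∈ S.group)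
    {x : GL ι k} (hx : x ∈ S.group) :
    ∃ g ∈ S.group, Matrix.GeneralLinearGroup.map σ g = g * x := by
  classical
  have hσG : ∀ g ∈ S.group, Matrix.GeneralLinearGroup.map σ g ∈ S.group := by
    intro g hg
    refine ((Subgroup.closure_le _).2 ?_ : S.group ≤ S.group.comap
      (Matrix.GeneralLinearGroup.map σ)) hg
    rintro y ⟨j, t, rfl⟩
    exact hσX j t
  haveI : S.ideal.IsPrime := S.ideal_isPrime
  -- the map `g ↦ g⁻¹ σ(g)` on the coordinate ring
  set Φ : Matrix ι ι (MvPolynomial (ι × ι) k) :=
    (gen (k := k) (ι := ι)).adjugate * (gen (k := k) (ι := ι)).map (fun p => p ^ q) with hΦ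
  have hev : ∀ M : Matrix ι ι k, (MvPolynomial.eval (pt M)).mapMatrix Φ =
      M.adjugate * M.map (fun a => a ^ q) := by
    intro M
    rw [hΦ, map_mul, RingHom.map_adjugate, eval_gen]
    congr 1
    ext a b
    simp [gen, pt, Matrix.map_apply]
  let φ0 : MvPolynomial (ι × ι) k →+* MvPolynomial (ι × ι) k ⧸ S.ideal :=
    (Ideal.Quotient.mk S.ideal).comp
      (MvPolynomial.aeval fun p : ι × ι => Φ p.1 p.2 :
        MvPolynomial (ι × ι) k →ₐ[k] MvPolynomial (ι × ι) k).toRingHom
  let f : MvPolynomial (ι × ι) k ⧸ S.ideal →+* MvPolynomial (ι × ι) k ⧸ S.ideal :=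
    Ideal.Quotient.lift S.ideal φ0 fun p hp => by
      refine Ideal.Quotient.eq_zero_iff_mem.2 (S.mem_ideal.2 fun g hg => ?_)
      show MvPolynomial.eval _ (MvPolynomial.aeval _ p) = 0
      rw [eval_comp, hev, ← val_inv_eq_adjugate (S.det_eq_one hg),
        show ((g : Matrix ι ι k).map fun a => a ^ q) =
          ((Matrix.GeneralLinearGroup.map σ g : GL ι k) : Matrix ι ι k) from
          Matrix.ext fun a b => (hσ _).symm,
        ← Units.val_mul]
      exact S.mem_ideal.1 hp _ (Subgroup.mul_mem _ (Subgroup.inv_mem _ hg) (hσG g hg))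
  have hf_mk : ∀ p, f (Ideal.Quotient.mk S.ideal p) =
      Ideal.Quotient.mk S.ideal (MvPolynomial.aeval (fun p : ι × ι => Φ p.1 p.2) p) := fun p => rfl
  -- the coordinate ring is finite over the image
  have hpow : ∀ a b : ι, (Ideal.Quotient.mk S.ideal) (MvPolynomial.X (a, b) ^ q) =
      ∑ c, f (Ideal.Quotient.mk S.ideal (MvPolynomial.X (c, b))) *
        Ideal.Quotient.mk S.ideal (MvPolynomial.X (a, c)) := by
    intro a b
    set G' : Matrix ι ι (MvPolynomial (ι × ι) k ⧸ S.ideal) :=
      (Ideal.Quotient.mk S.ideal).mapMatrix (gen (k := k) (ι := ι)) with hG'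
    have hdet : G'.det = 1 := by
      rw [hG', ← RingHom.map_det, ← map_one (Ideal.Quotient.mk S.ideal), Ideal.Quotient.eq]
      refine S.mem_ideal.2 fun g hg => ?_
      rw [map_sub, map_one, RingHom.map_det, eval_gen, S.det_eq_one hg, sub_self]
    have e : G' * (Ideal.Quotient.mk S.ideal).mapMatrix Φ =
        (Ideal.Quotient.mk S.ideal).mapMatrix
          ((gen (k := k) (ι := ι)).map (fun p => p ^ q)) := by
      rw [hΦ, map_mul, RingHom.map_adjugate, ← hG', ← Matrix.mul_assoc, Matrix.mul_adjugate,
        hdet, one_smul, Matrix.one_mul]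
    have := congrFun (congrFun e a) b
    simp only [hG', RingHom.mapMatrix_apply, Matrix.mul_apply, Matrix.map_apply, gen,
      Matrix.of_apply] at this
    rw [← this]
    refine Finset.sum_congr rfl fun c _ => ?_
    rw [hf_mk, MvPolynomial.aeval_X, mul_comm]
  set D0 := Fintype.card (ι × ι) * (q - 1) with hD0
  have hint : f.IsIntegral := by
    suffices hfinite : Module.Finite f.range (MvPolynomial (ι × ι) k ⧸ S.ideal) by
      haveI := Algebra.IsIntegral.of_finite f.range (MvPolynomial (ι × ι) k ⧸ S.ideal)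
      exact RingHom.IsIntegral.trans f.rangeRestrict f.range.subtype
        (RingHom.isIntegral_of_surjective _ f.rangeRestrict_surjective)
        (fun y => show (algebraMap f.range _).IsIntegralElem y from Algebra.IsIntegral.isIntegral y)
    let Sp : Submodule f.range (MvPolynomial (ι × ι) k ⧸ S.ideal) :=
      Submodule.span _ ((fun s : (ι × ι) →₀ ℕ => Ideal.Quotient.mk S.ideal
        (MvPolynomial.monomial s 1)) '' {s | ∀ i, s i ≤ D0})
    have hfin : ({s : (ι × ι) →₀ ℕ | ∀ i, s i ≤ D0}).Finite := by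
      refine Set.Finite.of_finite_image ?_ (DFunLike.coe_injective.injOn)
      refine (Set.Finite.pi' fun _ => Set.finite_Iic D0).subset ?_
      rintro _ ⟨s, hs, rfl⟩ i
      exact hs i
    have key : ∀ (d : ℕ) (s : (ι × ι) →₀ ℕ), s.degree = d →
        Ideal.Quotient.mk S.ideal (MvPolynomial.monomial s 1) ∈ Sp := by
      intro d
      induction d using Nat.strong_induction_on with
      | _ d ih =>
        intro s hs
        by_cases hsmall : ∀ i, s i ≤ D0
        · exact Submodule.subset_span ⟨s, hsmall, rfl⟩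
        push Not at hsmall
        obtain ⟨⟨a, b⟩, hab⟩ := hsmall
        have hqa : q ≤ s (a, b) := by
          have : 1 * (q - 1) ≤ D0 :=
            Nat.mul_le_mul_right _ (Fintype.card_pos_iff.2 ⟨(a, b)⟩)
          omega
        obtain ⟨r, hr⟩ : ∃ r, s = Finsupp.single (a, b) q + r :=
          ⟨s - Finsupp.single (a, b) q, (add_tsub_cancel_of_le (Finsupp.single_le_iff.2 hqa)).symm⟩
        rw [hr, ← one_mul (1 : k), ← MvPolynomial.monomial_mul,
          ← MvPolynomial.X_pow_eq_monomial, map_mul, hpow, Finset.sum_mul]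
        refine Submodule.sum_mem _ fun c _ => ?_
        rw [mul_assoc, ← map_mul, show MvPolynomial.X (a, c) * MvPolynomial.monomial r (1 : k) =
          MvPolynomial.monomial (Finsupp.single (a, c) 1 + r) 1 by
            rw [MvPolynomial.X, MvPolynomial.monomial_mul, one_mul]]
        refine Submodule.smul_mem Sp (⟨f _, f.mem_range_self _⟩ : f.range) (ih _ ?_ _ rfl)
        rw [← hs, hr, map_add, map_add, Finsupp.degree_single, Finsupp.degree_single]
        omega
    have htop : Sp = ⊤ := by
      rw [eq_top_iff]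
      intro y _
      obtain ⟨p, rfl⟩ := Ideal.Quotient.mk_surjective y
      induction p using MvPolynomial.induction_on' with
      | monomial s c =>
        have hc : f (Ideal.Quotient.mk S.ideal (MvPolynomial.C c)) =
            Ideal.Quotient.mk S.ideal (MvPolynomial.C c) := by
          rw [hf_mk, MvPolynomial.aeval_C]; rfl
        rw [← mul_one c, ← MvPolynomial.C_mul_monomial, map_mul, ← hc]
        exact Submodule.smul_mem Sp (⟨f _, f.mem_range_self _⟩ : f.range) (key _ s rfl)
      | add a b ha hb => rw [map_add]; exact Submodule.add_mem _ (ha trivial) (hb trivial)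
    exact ⟨htop ▸ Submodule.fg_span (hfin.image _)⟩
  -- the map is injective
  have hker : RingHom.ker f = ⊥ := by
    by_contra hne
    have hmono : ∀ I₁ I₂ : Ideal (MvPolynomial (ι × ι) k ⧸ S.ideal), I₁.IsPrime → I₁ < I₂ →
        I₁.comap f < I₂.comap f := by
      intro I₁ I₂ hI₁ hlt
      obtain ⟨y, hy1, hy2⟩ := SetLike.exists_of_lt hlt
      letI instF := f.toAlgebra
      exact Ideal.comap_lt_comap_of_integral_mem_sdiff hlt.le ⟨hy1, hy2⟩ (hint y)
    let c : ℕ → Ideal (MvPolynomial (ι × ι) k ⧸ S.ideal) := fun n =>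
      (fun I => Ideal.comap f I)^[n] ⊥
    have hcp : ∀ n, (c n).IsPrime := by
      intro n
      induction n with
      | zero => exact Ideal.isPrime_bot
      | succ n ih =>
        show (((fun I => Ideal.comap f I)^[n + 1]) ⊥).IsPrime
        rw [Function.iterate_succ_apply']
        exact Ideal.IsPrime.comap f
    have hc : ∀ n, c n < c (n + 1) := by
      intro n
      induction n with
      | zero =>
        show ⊥ < Ideal.comap f ⊥
        rw [← RingHom.ker_eq_comap_bot]
        exact bot_lt_iff_ne_bot.2 hne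
      | succ n ih =>
        have := hmono _ _ (hcp n) ih
        show ((fun I => Ideal.comap f I)^[n + 1]) ⊥ < ((fun I => Ideal.comap f I)^[n + 1 + 1]) ⊥
        rw [Function.iterate_succ_apply' (n := n + 1), Function.iterate_succ_apply' (n := n)]
        rwa [show c (n + 1) = Ideal.comap f (c n) from Function.iterate_succ_apply' _ _ _] at this
    exact not_strictMono_of_wellFoundedGT c (strictMono_nat_of_lt_succ hc)
  -- a point over `x`
  let evx : MvPolynomial (ι × ι) k ⧸ S.ideal →+* k :=
    Ideal.Quotient.lift S.ideal (MvPolynomial.eval (pt (x : Matrix ι ι k)))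
      fun p hp => S.mem_ideal.1 hp x hx
  haveI hm : (RingHom.ker evx).IsMaximal := RingHom.ker_isMaximal_of_surjective _
    fun a => ⟨Ideal.Quotient.mk S.ideal (MvPolynomial.C a), MvPolynomial.eval_C a⟩
  obtain ⟨Q, hQ, hQx⟩ : ∃ Q : Ideal (MvPolynomial (ι × ι) k ⧸ S.ideal),
      Q.IsMaximal ∧ Q.comap f = RingHom.ker evx :=
    exists_maximal_comap f hint (RingHom.ker evx)
      (show RingHom.ker f ≤ RingHom.ker evx by rw [hker]; exact bot_le)
  have hQ' : (Q.comap (Ideal.Quotient.mk S.ideal)).IsMaximal :=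
    Ideal.comap_isMaximal_of_surjective _ Ideal.Quotient.mk_surjective
  obtain ⟨y, hy⟩ := MvPolynomial.eq_vanishingIdeal_singleton_of_isMaximal k hQ'
  set M : Matrix ι ι k := Matrix.of fun a b => y (a, b) with hM
  have hptM : pt M = y := rfl
  have hQmem : ∀ p, p ∈ Q.comap (Ideal.Quotient.mk S.ideal) → MvPolynomial.eval y p = 0 := by
    intro p hp
    rw [hy, MvPolynomial.mem_vanishingIdeal_singleton_iff, aeval_eq_eval'] at hp
    exact hp
  have hpoint : S.IsPoint M := fun p hp => hptM ▸ hQmem p (by
    rw [Ideal.mem_comap, Ideal.Quotient.eq_zero_iff_mem.2 hp]; exact Q.zero_mem)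
  have hdetM : M.det = 1 := hpoint.det_eq_one S
  let g : GL ι k := Matrix.GeneralLinearGroup.mkOfDetNeZero M (by rw [hdetM]; exact one_ne_zero)
  have hg : g ∈ S.group := S.mem_of_isPoint hpoint
  refine ⟨g, hg, ?_⟩
  have heq : M.adjugate * M.map (fun a => a ^ q) = (x : Matrix ι ι k) := by
    rw [← hev]
    ext a b
    have h1 : Ideal.Quotient.mk S.ideal (MvPolynomial.X (a, b) -
        MvPolynomial.C ((x : Matrix ι ι k) a b)) ∈ RingHom.ker evx := by
      rw [RingHom.mem_ker]
      show MvPolynomial.eval _ _ = 0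
      simp [pt]
    rw [← hQx] at h1
    have h2 := hQmem _ (show MvPolynomial.aeval (fun p : ι × ι => Φ p.1 p.2)
      (MvPolynomial.X (a, b) - MvPolynomial.C ((x : Matrix ι ι k) a b)) ∈
        Q.comap (Ideal.Quotient.mk S.ideal) from h1)
    rw [map_sub, map_sub, MvPolynomial.aeval_X, MvPolynomial.aeval_C,
      MvPolynomial.algebraMap_eq, MvPolynomial.eval_C, sub_eq_zero] at h2
    exact h2
  apply Units.ext
  rw [Units.val_mul]
  show M.map σ = M * (x : Matrix ι ι k)
  rw [← heq, ← Matrix.mul_assoc, Matrix.mul_adjugate, hdetM, one_smul, Matrix.one_mul]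
  exact Matrix.ext fun a b => hσ _

/-- Lang's theorem for families permuted by a Frobenius map on their parameters. -/
theorem Fam.lang {q : ℕ} (hq : 2 ≤ q) (σ : k →+* k) (hσ : ∀ t, σ t = t ^ q)
    (hσX : ∀ j t, Matrix.GeneralLinearGroup.map σ (S.X j t) = S.X j (σ t))
    {x : GL ι k} (hx : x ∈ S.group) :
    ∃ g ∈ S.group, Matrix.GeneralLinearGroup.map σ g = g * x :=
  S.lang' hq σ hσ (fun j t => (hσX j t).symm ▸ S.mem_group _ _) hx

end Cfsg.Agent.AlgGroup
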